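import Cfsg.Agent.H0.TC
set_option maxRecDepth 100000
namespace H0.TCS621
open H0
noncomputable def r0 : TC.WTr := (.node (.node (.node (.node (.node (.node (.leaf [0] 0 0 false) (.leaf [4, 11, 10, 5] 31 1 false)) (.leaf [4] 4 1 false)) (.node (.leaf [1] 1 1 false) (.leaf [1, 4, 2, 7, 4] 45 5 false))) (.node (.node (.leaf [3, 2, 4, 0, 5] 49 0 false) (.leaf [11, 6, 9, 10] 23 0 false)) (.node (.leaf [10, 6, 10, 5, 6] 32 2 false) (.leaf [6, 7, 6, 8, 8, 6, 8, 6] 18 8 false)))) (.node (.node (.node (.leaf [2, 0, 1, 3, 2, 0, 1] 37 3 false) (.leaf [7, 6, 8, 8, 6, 8, 6, 10] 18 0 false)) (.node (.leaf [2, 4, 0, 5, 1] 49 1 false) (.leaf [0, 6, 5, 3, 0, 4, 3] 51 6 true))) (.node (.node (.leaf [9, 3, 9, 1, 10] 46 2 false) (.leaf [7] 7 1 false)) (.node (.leaf [5, 0, 4, 9, 5, 0, 5] 50 5 true) (.leaf [10] 10 0 false))))) (.node (.node (.node (.node (.leaf [5, 1, 3, 2, 4] 49 4 false) (.leaf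 [8, 9, 7] 17 1 false)) (.node (.leaf [5, 8, 5, 3, 4] 26 3 false) (.leaf [5, 0, 4, 4, 4, 0, 4] 50 6 false))) (.node (.node (.leaf [2] 1 0 false) (.leaf [4, 3, 5, 3, 4] 26 0 true)) (.node (.leaf [0, 5, 1, 3, 2] 49 3 false) (.leaf [0, 11, 10, 0, 11] 48 2 false)))) (.node (.node (.node (.leaf [0, 3, 7, 0] 44 1 false) (.leaf [6] 6 0 false)) (.node (.leaf [5] 4 0 false) (.leaf [4, 7, 11, 8, 5] 35 1 false))) (.node (.node (.leaf [0, 2, 2, 0, 2, 5, 2] 38 1 false) (.leaf [9, 7, 6] 17 2 false)) (.node (.leaf [8, 5, 3, 4, 3] 26 4 false) (.leaf [6, 9, 10, 7] 23 1 false))))))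
noncomputable def r1 : TC.WTr := (.node (.node (.node (.node (.node (.node (.leaf [8, 0, 7] 43 2 false) (.leaf [10, 5, 11, 4] 31 3 false)) (.leaf [6] 6 0 false)) (.node (.leaf [1, 7, 3, 8, 2] 47 1 false) (.leaf [7] 7 1 false))) (.node (.node (.leaf [2] 1 0 false) (.leaf [7, 7, 7] 16 0 false)) (.node (.leaf [3, 5, 8, 5, 3] 26 2 false) (.leaf [9, 6, 11, 8] 23 0 true)))) (.node (.node (.node (.leaf [4, 4, 4, 0, 4, 9, 5] 50 0 false) (.leaf [6] 6 0 false)) (.node (.leaf [6, 3, 4, 4, 4] 25 4 false) (.leaf [6, 11, 8, 10] 23 1 true))) (.node (.node (.leaf [0, 8, 3, 0] 44 3 true) (.leaf [5, 9, 10, 9, 3] 33 1 false)) (.node (.leaf [8, 10, 6, 4, 10] 34 2 false) (.leaf [7, 9, 8] 22 1 false))))) (.node (.node (.node (.node (.leaf [2, 2, 0, 2, 5, 2, 2] 38 2 false) (.leaf [10, 5, 6, 4, 10] 32 4 false)) (.node (.leaf [11, 3, 11] 30 0 false) (.leaf [10, 9, 11, 9, 10] 12 2 false))) (.node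 (.node (.leaf [1] 1 1 false) (.leaf [8] 7 0 false)) (.node (.leaf [5] 4 0 false) (.leaf [9, 4, 7, 3, 9] 33 1 true)))) (.node (.node (.node (.leaf [4, 2, 7, 4, 8] 45 0 false) (.leaf [0, 8, 0] 43 1 false)) (.node (.leaf [4, 3, 6, 3, 4] 25 2 false) (.leaf [10] 10 0 false))) (.node (.node (.leaf [1] 1 1 false) (.leaf [8, 8, 8] 16 0 true)) (.node (.leaf [2, 2, 0, 2, 2, 0, 2] 38 7 false) (.leaf [5, 11, 4, 10] 31 1 true))))))
noncomputable def r2 : TC.WTr := (.node (.node (.node (.node (.node (.node (.leaf [2, 0, 8, 3] 44 2 true) (.leaf [8, 10, 9, 6] 23 3 true)) (.leaf [4] 4 1 false)) (.node (.leaf [3] 3 0 false) (.leaf [10, 6, 4, 10, 5] 34 3 false))) (.node (.node (.leaf [2] 1 0 false) (.leaf [4, 8, 1, 4, 2] 45 3 false)) (.node (.leaf [8, 1, 4, 2, 7] 45 4 false) (.leaf [5, 11, 4, 11] 31 4 false)))) (.node (.node (.node (.leaf [8, 3, 0, 2] 44 4 true) (.leaf [0, 9, 3, 5, 0, 3, 4]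 51 7 false)) (.node (.leaf [6, 3, 5, 5, 5] 25 5 true) (.leaf [7, 6, 8] 17 3 false))) (.node (.node (.leaf [4, 0, 5, 1, 3] 49 2 false) (.leaf [2, 8, 2] 42 1 false)) (.node (.leaf [3, 0, 4, 3, 9, 0, 6] 51 1 true) (.leaf [11] 11 0 false))))) (.node (.node (.node (.node (.leaf [7, 0, 8] 43 0 false) (.leaf [4, 10, 6, 10, 5] 32 1 false)) (.node (.leaf [0, 2, 0, 8] 44 1 true) (.leaf [8, 11, 7] 22 3 false))) (.node (.node (.leaf [2] 1 0 false) (.leaf [5, 8, 1, 5, 2] 45 0 true)) (.node (.leaf [4, 4, 4, 4, 4] 24 0 false) (.leaf [7, 4, 10, 5, 6] 34 1 true)))) (.node (.node (.node (.leaf [3, 2, 0, 1, 0, 2, 0] 37 6 false) (.leaf [8] 7 0 false)) (.node (.leaf [2, 7, 4, 8, 1] 45 1 false) (.leaf [3, 9, 1, 10, 2] 46 3 false))) (.node (.node (.leaf [7, 5, 8, 1, 5] 45 5 true) (.leaf [10, 9, 6, 11] 23 4 true)) (.node (.leaf [2, 7, 5, 8, 1] 45 4 true) (.leaf [8, 5, 9, 4, 7] 35 4 false))))))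
noncomputable def r3 : TC.WTr := (.node (.node (.node (.node (.node (.node (.leaf [3, 7, 0, 1] 44 2 false) (.leaf [11] 11 0 false)) (.leaf [3, 4, 4, 4, 3] 25 5 false)) (.node (.leaf [5, 0, 3, 4, 6, 0, 9] 51 2 false) (.leaf [9] 9 0 false))) (.node (.node (.leaf [2] 1 0 false) (.leaf [0, 1, 0, 3] 44 4 false)) (.node (.leaf [9, 5, 0, 4, 4, 4, 0] 50 5 false) (.leaf [9, 3, 8, 5, 9] 33 4 false)))) (.node (.node (.node (.leaf [2] 1 0 false) (.leaf [6] 6 0 false)) (.node (.leaf [3] 3 0 false) (.leaf [10, 7, 11, 6] 23 3 false))) (.node (.node (.leaf [8, 2, 8] 42 0 false) (.leaf [5, 3, 4, 3, 5] 26 5 false)) (.node (.leaf [9, 10, 9, 3, 8] 33 2 false) (.leaf [3, 11, 3] 30 1 false))))) (.node (.node (.node (.node (.leaf [11, 10, 0, 11, 10] 48 0 false) (.leaf [9, 10, 7, 11] 23 2 false)) (.node (.leaf [7, 0, 1, 0] 44 3 false) (.leaf [3, 5, 0, 3, 4, 6, 0] 51 1 false))) (.node (.node (.leaf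 [3, 1, 7, 3, 8] 47 0 false) (.leaf [8] 7 0 false)) (.node (.leaf [4] 4 1 false) (.leaf [11, 5, 11, 4] 31 0 true)))) (.node (.node (.node (.leaf [7, 3, 8, 2, 3] 47 2 false) (.leaf [6, 8, 9] 17 0 false)) (.node (.leaf [1, 0, 1, 1, 0, 1, 1] 38 0 true) (.leaf [2, 9, 3, 9, 1] 46 1 false))) (.node (.node (.leaf [1] 1 1 false) (.leaf [0, 7, 0] 43 3 false)) (.node (.leaf [8, 1, 5, 2, 7] 45 1 true) (.leaf [9, 10, 9, 10, 9] 12 5 false))))))
noncomputable def tS : Tr := (.leaf (nat_lit 0x3ffca6ee50f5aacabd10dff7da48d6a9cffe1ad0e1ad7b7986a1b1030983336c9bffb2eeaaecb883ea0ac52342eb10f95cfff1eb3692b56f0c2693bfe28c8c3dd0fffa7909a0e983569598a464cc3da055affdfbc39fb46344bc14147328d111b0f7ff639b777d9c5a09b630740f268c2ebdffc7f6d5c35283b774fc82a9b4587247fff4b43a60171631c3459a9751d591a13ffdbcb59f6078796987d189539ea364f3ff7020c8487aa0c1e9f28386e409ee47fff0baea10a88765ba689893a8b81e3f3ff7399807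63425dd94fad67d298b5a60ffebb6f1d62601da0df21ad1b4fa633e3ff771d8685d67581d589d893b5e815a1ffdbb8b1bd7c9f2172f0ae81d15e355abff755f0ae8964f9f01a8545681d7e0fbffd7b070e1638e060df9485c223262477ff314aa070fc1cc8f26d3b158694f118ffcc477ca923dc4070553dcdf1a06719bff5958069d2d5c9651581c1949a1dd62ffcdd77856190dc6681c1c874370ab46fff558633dcc25288b45473071f23e06effdbe6f97d0e04711876618391140052bff65c38110431504214c38104001008bffd9e0fc3e148370f43c0ec3a14837003ff000000000000000000000001e0741c))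
noncomputable def tJ : Tr := (.leaf (nat_lit 0xa02a42001e6948004200e84a403039072a82000041408e809aa90800052000380209004048520000c13c808000e011c6201c030c86010d02304a680c803802431a2020085195402bce50186000c0340065134a201400180c041c043b400008270802430c81004c469920015c0014002800538104001c400080114c0000241b844000041804028001401c300c403980000c0303803500ac18064280a200120089801040010000300600800c108600008020c030082c0000028040080036000100060000420040060c01080c02040000020608400840000001030000000000020000000b0005ad6b5ad6b58000))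
noncomputable def tQ : Tr := (.leaf (nat_lit 0x0))
noncomputable def tR : TC.WTr := (.node (.node r0 r1) (.node r2 r3))
def hl : List ℕ := [3, 4, 5, 5, 4, 6, 7, 8, 8, 7, 9, 10, 11]
def B : List (List ℕ) := [[0, 0], [1, 2], [2, 1], [3, 3], [4, 5], [5, 4], [6, 6], [7, 8], [8, 7], [9, 9], [10, 10], [11, 11], [9, 10, 9, 10, 9, 11], [9, 10, 9, 10, 9, 10, 9, 10, 9, 10, 9, 10], [9, 10, 9, 10, 9, 10, 9, 10, 9, 10, 9, 10], [10, 11, 10, 11], [7, 7, 7, 7], [7, 6, 8, 9], [6, 7, 6, 8, 8, 6, 8, 6, 10], [6, 7, 6, 7, 6, 7, 6, 7, 6, 7], [6, 7, 6, 8, 6, 7, 6, 8, 6, 7, 6, 8], [6, 8, 6, 8, 6, 8, 6, 8, 6, 8], [8, 11, 7, 9], [7, 11, 6, 9, 10], [4, 4, 4, 4, 4, 4], [3, 4, 4, 4, 3, 6], [5, 3, 4, 3, 5, 8], [3, 4, 3, 4, 3, 4, 3, 4, 3, 4, 3, 4, 3, 4, 3, 4], [3, 4, 3, 5, 3, 4, 3, 5, 3, 4, 3, 5, 3, 4, 3, 5, 3, 4, 3, 5], [3, 5, 3, 5, 3, 5, 3, 5, 3, 5, 3, 5, 3, 5, 3, 5], [3, 11, 3, 11], [5, 11, 4, 11,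 10], [5, 6, 4, 10, 6, 10], [3, 8, 5, 9, 10, 9], [4, 10, 5, 8, 10, 6], [5, 9, 4, 7, 11, 8], [1, 1, 1, 1, 1, 1, 1, 1, 1, 1, 1, 1], [2, 0, 1, 0, 2, 0, 1, 3], [2, 2, 0, 2, 2, 0, 2, 5], [0, 1, 0, 1, 0, 1, 0, 1, 0, 1, 0, 1], [0, 1, 0, 2, 0, 1, 0, 2, 0, 1, 0, 2, 0, 1, 0, 2, 0, 1, 0, 2], [0, 2, 0, 2, 0, 2, 0, 2, 0, 2, 0, 2], [2, 8, 2, 8], [0, 7, 0, 8], [0, 1, 0, 3, 7], [1, 4, 2, 7, 4, 8], [1, 10, 2, 9, 3, 9], [2, 3, 1, 7, 3, 8], [0, 11, 10, 0, 11, 10], [1, 3, 2, 4, 0, 5], [0, 4, 4, 4, 0, 4, 9, 5], [0, 9, 3, 5, 0, 3, 4, 6]]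
def subs : List (List ℕ) := [[3], [4], [5], [6], [7], [8], [9], [10], [11]]
def ex : List (List ℕ) := []
def inv (x : ℕ) : ℕ := [0, 2, 1, 3, 5, 4, 6, 8, 7, 9, 10, 11].getD x 0
noncomputable def rS : ℕ → ℕ := rowOf tS (nat_lit 7) (nat_lit 127) (nat_lit 130) (nat_lit 1361129467683753853853498429727072845823)
noncomputable def rJ : ℕ → ℕ := rowOf tJ (nat_lit 7) (nat_lit 127) (nat_lit 70) (nat_lit 1180591620717411303423)
noncomputable def C : TC.Cfg where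
  S := look rS (nat_lit 10) (nat_lit 1023)
  J := look rJ (nat_lit 5) (nat_lit 31)
  Q := lookQ tQ (nat_lit 7) (nat_lit 1) (nat_lit 1)
  R := tR.get
  hl := fun x => hl.contains x
  n := (nat_lit 27)
  M := (nat_lit 27)
  top := (nat_lit 891)
  nl := (nat_lit 12)
  need := (nat_lit 12)
  nr := (nat_lit 11)
theorem k0 : TC.chkRange C 0 1 = true := by decide +kernel
theorem rows0 : ∀ c < (0 + 1) * 64, c < C.M → TC.chkRow C c = true :=
  TC.rows_step (TC.rows_zero C) k0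
theorem main {G : Type*} [Group G] (g : ℕ → G) (hB : ∀ r ∈ B, ev g r = 1) (H : Subgroup G)
    (hH : ∀ w ∈ subs, ev g w ∈ H) :
    H.relIndex (Subgroup.closure (g '' {x | x < 12})) ≠ 0 ∧
      H.relIndex (Subgroup.closure (g '' {x | x < 12})) ≤ 27 :=
  TC.index_le C B subs ex inv hl tR.hint rfl (by decide +kernel) (by decide +kernel)
    (TC.rows_done rows0 (by decide +kernel)) g hB H hH
end H0.TCS621
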